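import Groth.Prelude.Def_WeilCoh
import Groth.Agent.Variety2.ProjBasics
import Groth.Agent.Variety2.DimPoints
import Mathlib.AlgebraicGeometry.AlgClosed.Basic

/-!
Geometry of the objects of a Weil cohomology theory: properness, finiteness of dimension,
dimensions of closures of points, rational points, residue degrees of closed immersions.
-/

set_option autoImplicit false

universe u v w

open AlgebraicGeometry CategoryTheory WeilCoh Topology

namespace Groth.WeilCoh

section Scheme

variable {X Y : Scheme.{u}}

theorem residueDegree_eq_one_of_surjective (f : X ⟶ Y) (x : X)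
    (h : Function.Surjective (f.stalkMap x)) : f.residueDegree x = 1 := by
  unfold Scheme.Hom.residueDegree
  letI := (f.residueFieldMap x).hom.toAlgebra
  refine Module.finrank_of_bijective_algebraMap ?_
  refine ⟨(f.residueFieldMap x).hom.injective, fun z => ?_⟩
  obtain ⟨z, rfl⟩ := IsLocalRing.residue_surjective z
  obtain ⟨w, rfl⟩ := h z
  exact ⟨IsLocalRing.residue _ w, IsLocalRing.ResidueField.map_residue (f.stalkMap x).hom w⟩

theorem residueDegree_closedImmersion (f : X ⟶ Y) [IsClosedImmersion f] (x : X) :
    f.residueDegree x = 1 :=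
  residueDegree_eq_one_of_surjective f x (f.stalkMap_surjective x)

/-- A closed embedding preserves the dimension of closures of points. -/
theorem pdim_map (f : X ⟶ Y) [IsClosedImmersion f] (x : X) : pdim Y (f x) = pdim X x := by
  have hf := f.isClosedEmbedding
  have e : f '' closure ({x} : Set X) = closure ({f x} : Set Y) := by
    rw [← hf.closure_image_eq, Set.image_singleton]
  have hh : IsHomeomorph ((hf.toIsEmbedding.homeomorphImage (closure ({x} : Set X))).trans
      (Homeomorph.setCongr e)) := Homeomorph.isHomeomorph _
  unfold pdim natDim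
  rw [hh.topologicalKrullDim_eq]

theorem pdim_genericPoint [IrreducibleSpace X] : pdim X (genericPoint X) = dim X := by
  have e : closure ({genericPoint X} : Set X) = Set.univ := genericPoint_closure (α := X)
  have hh : IsHomeomorph ((Homeomorph.setCongr e).trans (Homeomorph.Set.univ X)) :=
    Homeomorph.isHomeomorph _
  unfold pdim dim natDim
  rw [hh.topologicalKrullDim_eq]

attribute [local instance] specializationOrder in
theorem topologicalKrullDim_closure_eq_height (x : X) :
    topologicalKrullDim (closure ({x} : Set X)) = (Order.height x : ℕ∞) := by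
  have : QuasiSober (closure ({x} : Set X)) :=
    isClosed_closure.isClosedEmbedding_subtypeVal.quasiSober
  rw [topologicalKrullDim, Order.height_eq_krullDim_Iic]
  let e : TopologicalSpace.IrreducibleCloseds (closure ({x} : Set X)) ≃ closure ({x} : Set X) :=
    (irreducibleSetEquivPoints (α := closure ({x} : Set X))).toEquiv
  refine Order.krullDim_eq_of_orderIso
    { toFun := fun s => ⟨(e s).1, specializes_iff_mem_closure.2 (e s).2⟩
      invFun := fun y => e.symm ⟨y.1, specializes_iff_mem_closure.1 y.2⟩
      left_inv := fun s => e.symm_apply_apply s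
      right_inv := fun y => Subtype.ext (by simp)
      map_rel_iff' := fun {a b} => ?_ }
  exact (subtype_specializes_iff (e b) (e a)).symm.trans
    (irreducibleSetEquivPoints (α := closure ({x} : Set X))).map_rel_iff

theorem pdim_eq_height (x : X) : pdim X x = (Order.height x).toNat := by
  rw [pdim, natDim, topologicalKrullDim_closure_eq_height, WithBot.unbotD_coe]

attribute [local instance] specializationOrder in
theorem topologicalKrullDim_eq_height_genericPoint [IrreducibleSpace X] :
    topologicalKrullDim X = (Order.height (genericPoint X) : ℕ∞) := by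
  have e : closure ({genericPoint X} : Set X) = Set.univ := genericPoint_closure (α := X)
  have hh : IsHomeomorph ((Homeomorph.setCongr e).trans (Homeomorph.Set.univ X)) :=
    Homeomorph.isHomeomorph _
  rw [← topologicalKrullDim_closure_eq_height, hh.topologicalKrullDim_eq]

theorem pdim_closed {x : X} (hx : IsClosed ({x} : Set X)) : pdim X x = 0 := by
  rw [pdim_eq_height, Scheme.height_of_isClosed hx]
  simp

end Scheme

variable {k : Type u} [Field k]

theorem isProper_hom (X : Var k) : IsProper X.obj.hom := by
  obtain ⟨n, i, hi, h⟩ := X.property.2.1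
  rw [← h]
  infer_instance

theorem locallyOfFiniteType_hom (X : Var k) : LocallyOfFiniteType X.obj.hom :=
  (isProper_hom X).toLocallyOfFiniteType

theorem dim_eq_height (X : Var k) [IrreducibleSpace X.obj.left] :
    dim X.obj.left = (Order.height (genericPoint X.obj.left)).toNat := by
  rw [← pdim_genericPoint, pdim_eq_height]

theorem pdim_le_dim (X : Var k) (ξ : X.obj.left) : pdim X.obj.left ξ ≤ dim X.obj.left := by
  have := X.property.2.2
  have := locallyOfFiniteType_hom X
  rw [dim_eq_height, pdim_eq_height]
  refine ENat.toNat_le_toNat (Order.height_mono ?_)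
    (Groth.Variety2.Dim.height_ne_top X.obj.hom _)
  exact Scheme.le_iff_specializes.2 (genericPoint_specializes ξ)

theorem isClosedImmersion_section {X Y : Var k} (j : X ⟶ Y) (p : Y ⟶ X) (h : j ≫ p = 𝟙 X) :
    IsClosedImmersion (sm j) := by
  have := isProper_hom X
  have := isProper_hom Y
  have : IsSeparated (sm p ≫ X.obj.hom) := by
    rw [show sm p ≫ X.obj.hom = Y.obj.hom from Over.w p.hom]; infer_instance
  have : IsSeparated (sm p) := IsSeparated.of_comp (sm p) X.obj.hom
  have e : sm j ≫ sm p = 𝟙 _ := congrArg (fun φ => φ.hom.left) h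
  have : IsClosedImmersion (sm j ≫ sm p) := by rw [e]; infer_instance
  exact IsClosedImmersion.of_comp (sm j) (sm p)

variable [IsAlgClosed k]

/-- A closed point is the image of a morphism from an object `Spec k`. -/
theorem exists_pointMap (X : Var k) {x : X.obj.left} (hx : IsClosed ({x} : Set X.obj.left)) :
    ∃ (P : Var k) (e : P ⟶ X) (_ : P.obj.left), Subsingleton P.obj.left ∧ dim P.obj.left = 0 ∧
      (∀ z : P.obj.left, sm e z = x) ∧ IsClosedImmersion (sm e) ∧
      ∀ z : P.obj.left, IsField (P.obj.left.presheaf.stalk z) := by
  have := isProper_hom X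
  let s := pointOfClosedPoint X.obj.hom x hx
  have hs : s ≫ X.obj.hom = 𝟙 _ := pointOfClosedPoint_comp _ _ _
  have hsc : IsClosedImmersion s := isClosedImmersion_of_comp_eq_id _ _ hs
  have hP : IsVar k (Over.mk (𝟙 (Spec (CommRingCat.of k)))) := by
    refine ⟨inferInstanceAs (Smooth (𝟙 _)), ?_, inferInstanceAs (IrreducibleSpace (PrimeSpectrum k))⟩
    obtain ⟨n, i, hi, h⟩ := X.property.2.1
    exact ⟨n, s ≫ i, inferInstance, by rw [Category.assoc, h]; exact hs⟩
  have hss : Subsingleton (Spec (CommRingCat.of k)) := inferInstanceAs (Subsingleton (PrimeSpectrum k))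
  refine ⟨⟨_, hP⟩, ObjectProperty.homMk (Over.homMk s hs), (IsLocalRing.closedPoint k : PrimeSpectrum k),
    hss, ?_, fun z => pointOfClosedPoint_apply _ _ _ z, hsc, fun z => ?_⟩
  swap
  · show IsField ((Spec (CommRingCat.of k)).presheaf.stalk z)
    rw [show z = genericPoint (Spec (CommRingCat.of k)) from hss.elim _ _]
    exact Field.toIsField (Spec (CommRingCat.of k)).functionField
  have : IrreducibleSpace (Spec (CommRingCat.of k)) := inferInstanceAs (IrreducibleSpace (PrimeSpectrum k))
  show dim (Spec (CommRingCat.of k)) = 0
  exact pdim_genericPoint.symm.trans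
    (pdim_closed (X := Spec (CommRingCat.of k)) (Set.subsingleton_of_subsingleton.isClosed))

omit [IsAlgClosed k] in
theorem exists_isClosed_point (X : Var k) : ∃ x : X.obj.left, IsClosed ({x} : Set X.obj.left) := by
  have := X.property.2.2
  have := isProper_hom X
  have : CompactSpace X.obj.left := QuasiCompact.compactSpace_of_compactSpace X.obj.hom
  obtain ⟨x, -, hx⟩ := (isClosed_univ (X := X.obj.left)).exists_closed_singleton Set.univ_nonempty
  exact ⟨x, hx⟩

end Groth.WeilCoh
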