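import Groth.Agent.Variety2.DimPoints

/-!
The height of a point of a scheme locally of finite type over a field is the transcendence
degree of its residue field; points with finite residue extensions have the same height.
-/

set_option autoImplicit false

universe u

open AlgebraicGeometry CategoryTheory

namespace Groth.WeilCoh

variable {k : Type u} [Field k] {X Y : Scheme.{u}}

/-- The structure map from the base field to the residue field at a point. -/
noncomputable def baseToResidue (f : X ⟶ Spec (CommRingCat.of k)) (x : X) :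
    k →+* X.residueField x :=
  ((Scheme.ΓSpecIso (CommRingCat.of k)).inv ≫ f.appTop ≫ X.Γevaluation x).hom

theorem baseToResidue_comp (g : X ⟶ Y) (f : Y ⟶ Spec (CommRingCat.of k)) (x : X) :
    (g.residueFieldMap x).hom.comp (baseToResidue f (g x)) = baseToResidue (g ≫ f) x := by
  rw [baseToResidue, baseToResidue, ← CommRingCat.hom_comp, Category.assoc, Category.assoc,
    Scheme.Γevaluation_naturality, Scheme.Hom.comp_appTop, Category.assoc]

theorem height_eq_trdeg (f : X ⟶ Spec (CommRingCat.of k)) [LocallyOfFiniteType f] (x : X) :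
    ((Order.height x).toNat : Cardinal.{u}) =
      @Algebra.trdeg k (X.residueField x) _ _ (baseToResidue f x).toAlgebra := by
  letI := (baseToResidue f x).toAlgebra
  obtain ⟨U, hU, hxU, -⟩ := exists_isAffineOpen_mem_and_subset (U := ⊤) (Set.mem_univ x)
  let φ₀ := (Scheme.ΓSpecIso (CommRingCat.of k)).inv ≫ f.appLE ⊤ U le_top
  letI := φ₀.hom.toAlgebra
  have hft : φ₀.hom.FiniteType := by
    refine RingHom.FiniteType.comp (f.finiteType_appLE (isAffineOpen_top _) hU le_top) ?_
    exact RingHom.FiniteType.of_surjective _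
      (ConcreteCategory.bijective_of_isIso (Scheme.ΓSpecIso (CommRingCat.of k)).inv).2
  haveI : Algebra.FiniteType k Γ(X, U) := hft
  let ev := (X.evaluation U x hxU).hom
  have hev : ev.comp φ₀.hom = baseToResidue f x := by
    have e : f.appTop ≫ X.Γevaluation x = f.appLE ⊤ U le_top ≫ X.evaluation U x hxU := by
      change _ = (f.app ⊤ ≫ X.presheaf.map _) ≫ (X.presheaf.germ U x hxU ≫ X.residue x)
      rw [Category.assoc, TopCat.Presheaf.germ_res_assoc]
      rfl
    rw [baseToResidue, e, ← Category.assoc]
    rfl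
  set p := hU.primeIdealOf ⟨x, hxU⟩ with hp
  letI := X.presheaf.algebra_section_stalk ⟨x, hxU⟩
  haveI := hU.isLocalization_stalk ⟨x, hxU⟩
  have hker : ∀ a, ev a = 0 ↔ a ∈ p.asIdeal := fun a => by
    rw [← IsLocalization.AtPrime.to_map_mem_maximal_iff (X.presheaf.stalk x) p.asIdeal a]
    exact Ideal.Quotient.eq_zero_iff_mem
  let evA : Γ(X, U) →ₐ[k] X.residueField x :=
    { ev with commutes' := fun c => RingHom.congr_fun hev c }
  let ψ : (Γ(X, U) ⧸ p.asIdeal) →ₐ[k] X.residueField x :=
    Ideal.Quotient.liftₐ p.asIdeal evA fun a ha => (hker a).2 ha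
  letI : Algebra (Γ(X, U) ⧸ p.asIdeal) (X.residueField x) := ψ.toRingHom.toAlgebra
  have hψ : Function.Injective ψ := by
    rw [injective_iff_map_eq_zero]
    intro a ha
    obtain ⟨a, rfl⟩ := Ideal.Quotient.mk_surjective a
    exact Ideal.Quotient.eq_zero_iff_mem.2 ((hker a).1 ha)
  haveI : FaithfulSMul (Γ(X, U) ⧸ p.asIdeal) (X.residueField x) :=
    (faithfulSMul_iff_algebraMap_injective _ _).2 hψ
  haveI : IsFractionRing (Γ(X, U) ⧸ p.asIdeal) (X.residueField x) := by
    refine IsFractionRing.of_field _ _ fun z => ?_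
    obtain ⟨z, rfl⟩ := IsLocalRing.residue_surjective z
    obtain ⟨⟨a, s⟩, hz⟩ := IsLocalization.surj p.asIdeal.primeCompl z
    refine ⟨Ideal.Quotient.mk _ a, Ideal.Quotient.mk _ s.1, ?_⟩
    have hs : ev s.1 ≠ 0 := fun h => s.2 ((hker _).1 h)
    change _ = ev a / ev s.1
    refine (eq_div_iff (G₀ := X.residueField x) hs).2 ?_
    exact (map_mul (IsLocalRing.residue (X.presheaf.stalk x)) _ _).symm.trans
      (congrArg (IsLocalRing.residue (X.presheaf.stalk x)) hz)
  haveI : IsScalarTower k (Γ(X, U) ⧸ p.asIdeal) (X.residueField x) :=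
    IsScalarTower.of_algebraMap_eq fun c => (ψ.commutes c).symm
  obtain ⟨n, hn, htr⟩ := Groth.Variety2.Dim.exists_dim_quotient k Γ(X, U) p
  have hh := Groth.Variety2.Dim.height_fromSpec f hU p n hn
  rw [hU.fromSpec_primeIdealOf ⟨x, hxU⟩] at hh
  rw [show Order.height x = (n : ℕ∞) from hh, ENat.toNat_natCast, ← htr]
  exact ((FractionRing.algEquiv (Γ(X, U) ⧸ p.asIdeal) (X.residueField x)).restrictScalars k).trdeg_eq

/-- A point with finite residue extension over its image has the same height. -/
theorem height_eq_of_residueDegree_ne_zero (g : X ⟶ Y) (f : Y ⟶ Spec (CommRingCat.of k))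
    [LocallyOfFiniteType f] (h : X ⟶ Spec (CommRingCat.of k)) [LocallyOfFiniteType h]
    (w : g ≫ f = h) (x : X) (hd : g.residueDegree x ≠ 0) :
    (Order.height x).toNat = (Order.height (g x)).toNat := by
  subst w
  apply Nat.cast_injective (R := Cardinal.{u})
  rw [height_eq_trdeg (g ≫ f) x, height_eq_trdeg f (g x)]
  letI := (baseToResidue (g ≫ f) x).toAlgebra
  letI := (baseToResidue f (g x)).toAlgebra
  letI := (g.residueFieldMap x).hom.toAlgebra
  haveI : IsScalarTower k (Y.residueField (g x)) (X.residueField x) :=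
    IsScalarTower.of_algebraMap_eq' (baseToResidue_comp g f x).symm
  haveI : Module.Finite (Y.residueField (g x)) (X.residueField x) :=
    Module.finite_of_finrank_pos (Nat.pos_of_ne_zero hd)
  rw [← trdeg_add_eq k (Y.residueField (g x)) (A := X.residueField x), trdeg_eq_zero (R := Y.residueField (g x)),
    add_zero]

end Groth.WeilCoh
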