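import Groth.Prelude.Def_WeilCoh
import Mathlib.Tactic

/-!
Formal consequences of the conditions of a Weil cohomology theory (`WeilCoh.TheoryOn`):
uniqueness through Poincaré duality, the defining identity of push-forward, degree 0.
-/

set_option autoImplicit false

universe u v w

open AlgebraicGeometry CategoryTheory WeilCoh

namespace Groth.WeilCoh

variable {k : Type u} [Field k] {P : ObjectProperty (Over (Spec (CommRingCat.of k)))}
variable {K : Type v} [Field K] (T : TheoryOn.{u, v, w} k P K)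

/-- Two classes of degree `m` agree when their pairings with the complementary degree agree. -/
theorem eq_of_tr_mul (X : P.FullSubcategory) (m n : ℤ) (h : m + n = 2 * (dim X.obj.left : ℤ))
    {x y : T.H X} (hx : x ∈ T.gr X m) (hy : y ∈ T.gr X m)
    (H : ∀ b ∈ T.gr X n, T.tr X (x * b) = T.tr X (y * b)) : x = y := by
  have : (pairing K (T.gr X m) (T.gr X n) (T.tr X)).IsPerfPair := T.duality X m n h
  have hinj := (LinearMap.IsPerfPair.bijective_left (pairing K (T.gr X m) (T.gr X n) (T.tr X))).injective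
  exact congrArg Subtype.val (hinj (a₁ := ⟨x, hx⟩) (a₂ := ⟨y, hy⟩) (LinearMap.ext fun b => H b b.2))

/-- The defining identity of push-forward. -/
theorem tr_push {X Y : P.FullSubcategory} (f : X ⟶ Y) (i : ℤ) (a : T.gr X i) {b : T.H Y}
    (hb : b ∈ T.gr Y (2 * (dim X.obj.left : ℤ) - i)) :
    T.tr Y ((T.push f i a : T.H Y) * b) = T.tr X ((a : T.H X) * T.pull f b) := by
  have : (pairing K (T.gr Y (i + 2 * (dim Y.obj.left : ℤ) - 2 * (dim X.obj.left : ℤ)))
      (T.gr Y (2 * (dim X.obj.left : ℤ) - i)) (T.tr Y)).IsPerfPair := T.duality Y _ _ (by omega)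
  have h := LinearEquiv.apply_symm_apply
    (pairing K (T.gr Y (i + 2 * (dim Y.obj.left : ℤ) - 2 * (dim X.obj.left : ℤ)))
      (T.gr Y (2 * (dim X.obj.left : ℤ) - i)) (T.tr Y)).toPerfPair (T.pushFunctional f i a)
  exact congrArg (fun φ : Module.Dual K _ => φ ⟨b, hb⟩) h

/-- A class of even degree commutes with every homogeneous class. -/
theorem mul_comm_even (X : P.FullSubcategory) {i j : ℤ} (hi : Even i) {a b : T.H X}
    (ha : a ∈ T.gr X i) (hb : b ∈ T.gr X j) : a * b = b * a := by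
  rw [T.gradedComm X i j a b ha hb, Even.neg_one_pow ((Int.natAbs_even.2 hi).mul_right _), one_smul]

theorem exists_tr_eq_one (X : P.FullSubcategory) :
    ∃ b ∈ T.gr X (2 * (dim X.obj.left : ℤ)), T.tr X b = 1 := by
  obtain ⟨b, hb⟩ := (T.tr_bijective X).surjective 1
  exact ⟨b, b.2, hb⟩

theorem one_ne_zero' (X : P.FullSubcategory) : (1 : T.H X) ≠ 0 := by
  obtain ⟨b, -, hb⟩ := exists_tr_eq_one T X
  intro h
  rw [← one_mul b, h, zero_mul, map_zero] at hb
  exact zero_ne_one hb

theorem one_mem (X : P.FullSubcategory) : (1 : T.H X) ∈ T.gr X 0 := SetLike.one_mem_graded (T.gr X)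

theorem eq_of_tr_eq (X : P.FullSubcategory) {x y : T.H X}
    (hx : x ∈ T.gr X (2 * (dim X.obj.left : ℤ))) (hy : y ∈ T.gr X (2 * (dim X.obj.left : ℤ)))
    (h : T.tr X x = T.tr X y) : x = y :=
  congrArg Subtype.val ((T.tr_bijective X).injective (a₁ := ⟨x, hx⟩) (a₂ := ⟨y, hy⟩) h)

/-- `H^0 = K · 1`. -/
theorem exists_smul_one (X : P.FullSubcategory) {a : T.H X} (ha : a ∈ T.gr X 0) :
    ∃ c : K, c • (1 : T.H X) = a := by
  obtain ⟨b₀, hb₀, hb₀'⟩ := exists_tr_eq_one T X
  refine ⟨T.tr X (a * b₀), ?_⟩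
  refine eq_of_tr_mul T X 0 _ (zero_add _) ((T.gr X 0).smul_mem _ (one_mem T X)) ha fun b hb => ?_
  have hb' : b = T.tr X b • b₀ := by
    refine eq_of_tr_eq T X hb ((T.gr X _).smul_mem _ hb₀) ?_
    simp [hb₀']
  rw [smul_mul_assoc, one_mul, map_smul, smul_eq_mul]
  conv_rhs => rw [hb', mul_smul_comm, map_smul, smul_eq_mul]
  rw [mul_comm]

theorem smul_one_injective (X : P.FullSubcategory) :
    Function.Injective fun c : K => c • (1 : T.H X) :=
  smul_left_injective K (one_ne_zero' T X)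

include T in
/-- The dimension of a product is the sum of the dimensions. -/
theorem dim_prod {X Y Q : P.FullSubcategory} (p : Q ⟶ X) (q : Q ⟶ Y) (hQ : IsProd p q) :
    dim Q.obj.left = dim X.obj.left + dim Y.obj.left := by
  obtain ⟨a, ha, ha'⟩ := exists_tr_eq_one T X
  obtain ⟨b, hb, hb'⟩ := exists_tr_eq_one T Y
  have h := T.tr_prod p q hQ a b ha hb
  rw [ha', hb', one_mul] at h
  by_contra hne
  have hmem := SetLike.mul_mem_graded (A := T.gr Q) (T.pull_mem p _ a ha) (T.pull_mem q _ b hb)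
  rw [T.tr_vanish Q _ _ hmem (by omega)] at h
  exact zero_ne_one h

end Groth.WeilCoh
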