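import Groth.Agent.WeilCoh.Basic
import Groth.Agent.WeilCoh.Geom

/-! Classes of the whole variety and of closed points. -/

set_option autoImplicit false

universe u v w

open AlgebraicGeometry CategoryTheory WeilCoh

namespace Groth.WeilCoh

variable {k : Type u} [Field k] [IsAlgClosed k] {K : Type v} [Field K]
variable (T : TheoryOn.{u, v, w} k (IsVar k) K)

theorem codim_genericPoint (X : Var k) [IrreducibleSpace X.obj.left] :
    codim X.obj.left (genericPoint X.obj.left) = 0 := by
  rw [codim, pdim_genericPoint, Nat.sub_self]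

omit [IsAlgClosed k] in
theorem preimMult_eq_one_of_isField {X Y : Scheme.{u}} (f : X ⟶ Y) (ξ : Y) (w : X)
    (h : f w ∈ closure ({ξ} : Set Y)) (hw : IsField (X.presheaf.stalk w)) :
    preimMult f ξ w h = 1 := by
  have hle : Ideal.map (f.stalkMap w).hom
      (RingHom.ker (Cyc.specMap (f w) ξ (specializes_iff_mem_closure.mpr h))) ≤ ⊥ := by
    rw [← IsLocalRing.isField_iff_maximalIdeal_eq.1 hw, Ideal.map_le_iff_le_comap]
    exact (IsLocalRing.le_maximalIdeal (RingHom.ker_ne_top _)).trans fun x hx => map_nonunit (f.stalkMap w).hom x hx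
  rw [preimMult, le_bot_iff.1 hle]
  letI := hw.toField
  have : IsSimpleModule (X.presheaf.stalk w) (X.presheaf.stalk w ⧸ (⊥ : Ideal (X.presheaf.stalk w))) :=
    isSimpleModule_iff_isCoatom.2 Ideal.bot_isMaximal.out
  rw [Module.length_eq_one]
  rfl

theorem cl_genericPoint (X : Var k) [IrreducibleSpace X.obj.left] :
    T.cl X (genericPoint X.obj.left) = 1 := by
  have h0 : T.cl X (genericPoint X.obj.left) ∈ T.gr X 0 := by
    simpa [codim_genericPoint X] using T.cl_mem X (genericPoint X.obj.left)
  obtain ⟨c, hc⟩ := exists_smul_one T X h0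
  obtain ⟨x, hx⟩ := exists_isClosed_point X
  obtain ⟨P, e, z, hP, hdim, he, -, hfield⟩ := exists_pointMap X hx
  have hpre : ∀ w : P.obj.left,
      IsCompPt ((sm e) ⁻¹' closure ({genericPoint X.obj.left} : Set X.obj.left)) w :=
    fun w => ⟨specializes_iff_mem_closure.1 (genericPoint_specializes _), fun w' _ _ => hP.elim _ _⟩
  have hclosed : ∀ w : P.obj.left, IsClosed ({w} : Set P.obj.left) := fun w =>
    Set.subsingleton_of_subsingleton.isClosed
  have h := T.cl_pull e (genericPoint X.obj.left)
    (fun w _ => by rw [pdim_closed (hclosed w), hdim, pdim_genericPoint]; simp)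
    (Or.inr fun w hw => preimMult_eq_one_of_isField _ _ _ _ (hfield w))
  let : Unique {w : P.obj.left //
      IsCompPt ((sm e) ⁻¹' closure ({genericPoint X.obj.left} : Set X.obj.left)) w} :=
    { default := ⟨z, hpre z⟩, uniq := fun w => Subtype.ext (hP.elim _ _) }
  rw [finsum_unique, preimMult_eq_one_of_isField _ _ _ _ (hfield _), Nat.cast_one, one_smul,
    (T.point P hdim).1, ← hc, map_smul, map_one] at h
  have : c = 1 := smul_one_injective T P (by simpa using h)
  rw [← hc, this, one_smul]

theorem tr_cl_closed (X : Var k) {x : X.obj.left} (hx : IsClosed ({x} : Set X.obj.left)) :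
    T.tr X (T.cl X x) = 1 := by
  obtain ⟨P, e, z, hP, hdim, he, hci, -⟩ := exists_pointMap X hx
  have hz : pdim P.obj.left z = 0 := pdim_closed Set.subsingleton_of_subsingleton.isClosed
  have h := T.cl_push e z 1 (by rw [hz]; simpa using one_mem T X)
  rw [he z, (T.point P hdim).1, map_one, mul_one, mul_one, (T.point P hdim).2,
    residueDegree_closedImmersion, Nat.cast_one, one_mul] at h
  exact h.symm

/-- A morphism with a retraction is compatible with the class identities. -/
theorem cl_push_section {X Q : Var k} (j : X ⟶ Q) (p : Q ⟶ X) (hj : j ≫ p = 𝟙 X)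
    (ξ : X.obj.left) (a : T.H Q) (ha : a ∈ T.gr Q (2 * (pdim X.obj.left ξ : ℤ))) :
    T.tr Q (T.cl Q (sm j ξ) * a) = T.tr X (T.cl X ξ * T.pull j a) := by
  have := isClosedImmersion_section j p hj
  rw [T.cl_push j ξ a ha, residueDegree_closedImmersion, Nat.cast_one, one_mul]

end Groth.WeilCoh
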